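import Cfsg.Agent.Omega.NO3S.EThree.FourTwo.Fr
import Cfsg.Agent.Omega.NO3S.EThree.Row7
import Cfsg.Agent.Omega.EK3.Q.Claim
import Cfsg.Agent.Omega.EK3.Q.OfMul
import Cfsg.Agent.Omega.KL.TwoG.Inp

/-!
# Row (7): `k = 2`, `4 ≤ q`: (TI), every stage

* `frK_of` : 203's frame at `k = 2` from the second alternative of 514's `Q.split`;
* `kgroup` : `Y_j` is a `K`-group;
* `ti_two` : (TI);
* `tiIn_of`, `fourIn_of` : the sockets of Row7.
-/

set_option autoImplicit false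
set_option linter.unusedSectionVars false

namespace Cfsg.Agent.Omega.NO3S.EThree.FourTwo

open Subgroup Cfsg Cfsg.Agent.ZN.ChoiceBase
open Cfsg.Agent.ZN (jj zj bau zc zl o2)
open Cfsg.Agent.ZN.ChoiceSit (Syl exists_syl syl_conj)
open Cfsg.Agent.Omega.NO3S.EThree.Frame
open Cfsg.Agent.Omega.Node.MultiOf
open Cfsg.Agent.Omega.EK3.FK
open Cfsg.Agent.Omega.EK3.StarE (EE cj_le_EE)
open Cfsg.Agent.Omega.MinPar (NonLoc)
open Cfsg.Agent.Omega.ML.Final (MLK)
open Cfsg.Agent.Omega.Frame (Cls)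

universe u

variable {G : Type u} [Group G] [Finite G] {S : Sylow 2 G} {P K B ZJ : Subgroup G} {L W Z C : Fin 2 → Subgroup G}

/-- `Y_j` is a `K`-group -/
theorem kgroup {z : Fin 2 → G} (h : FrK S P K B ZJ L W Z C z) (j : Fin 2) : IsKGroup (YY z j) := by
  have hG := h.bg.hyp.ctx
  refine hG.kproper _ fun htop => ?_
  have := hG.simple
  obtain ⟨l, hl⟩ := h.exists_ne j
  have hz : z l ∈ center G := by
    rw [mem_center_iff]
    intro g
    have hg : g ∈ YY z j := by rw [htop]; exact mem_top g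
    exact mem_YY.1 hg l hl
  rcases (inferInstance : (center G).Normal).eq_bot_or_eq_top with h1 | h1
  · rw [h1, mem_bot] at hz
    exact h.z1 l hz
  · apply hG.nonComm
    refine ⟨⟨fun a b => ?_⟩⟩
    have hb : b ∈ center G := by rw [h1]; exact mem_top b
    exact mem_center_iff.1 hb a

/-- the frame from the second alternative of `Q.split` -/
theorem frK_of (h : Mul S P K B ZJ L W Z C 4) {z : Fin 2 → G} (hz : EK3.Q.HZ S W Z z) :
    FrK S P K B ZJ L W Z C z where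
  mul := h
  two := le_rfl
  zZ i := (hz i).1
  z1 i := (hz i).2.1
  Tz i := ((hz i).2.2 (z i) (hz i).1).2 (Or.inr rfl)
  fx i w hw := ((hz i).2.2 w hw).1
  uni := EK3.Q.OfMul.uni_mul h le_rfl (by norm_num)
  blk := EK3.Q.OfMul.blk_mul h le_rfl (by norm_num) (EK3.Q.B_le_TStar h.bg)

/-- **(TI), `k = 2`, `4 ≤ q`, every stage**, from the impossibility of (4F). -/
theorem ti_two' {q : ℕ} (h : Mul S P K B ZJ L W Z C q) (hq : 4 ≤ q)
    (hF : q = 4 → ∀ z : Fin 2 → G, FrK S P K B ZJ L W Z C z →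
      (∀ i, ∃ f ∈ DD z, f ∈ normalizer (W i : Set G) ∧ f ∉ normalizer (Z i : Set G)) → False) :
    ∀ i, TI (Z i) := by
  have hu := EK3.Q.OfMul.uni_mul h le_rfl (by omega)
  have hb : ∀ T : Subgroup G, B ≤ T → TC.OfMul.BlkS K B T := fun T hT =>
    EK3.Q.OfMul.blk_mul h le_rfl (by omega) hT
  rcases EK3.Q.split h le_rfl hq hb hu with h1 | ⟨rfl, z, hz, hi⟩
  · intro i
    refine OM.SWQ.ti_of_cent h.bg fun z hz hz1 => le_trans (le_inf le_rfl fun x _ => ?_)
      (h1 i (i + 1) (ne_succ i).symm z hz hz1)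
    rw [EK3.Q.mem_CQ]
    intro l hl hl'
    exact absurd (((fin2 i l).1 hl')) hl
  · refine (hF rfl z (frK_of h hz) ?_).elim
    have h1 := EK3.Q.hp h le_rfl hb hu hz hi
    intro i
    obtain ⟨f, hf, hW, hZ⟩ := h1 i
    exact ⟨f, mem_DD.2 (EK3.Q.mem_DD.1 hf), hW, hZ⟩

/-- **The abstract frame of 764 from `FrK`**, given (K1): `O₂(D)` centralises `Z_i`. -/
theorem twoFr {z : Fin 2 → G} (h : FrK S P K B ZJ L W Z C z) (hE : NLoc (KZ B ZJ))
    (hp : ∀ i, ∃ f ∈ DD z, f ∈ normalizer (W i : Set G) ∧ f ∉ normalizer (Z i : Set G))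
    (hO : ∀ i, o2 (DD z) ≤ centralizer (Z i : Set G)) : KL.TwoG.Fr (TT S W) Z fun i => zpowers (z i) where
  char2 := char2 h
  sqV := sqV h
  ZV := ZV h
  ne := ne h
  syl := syl h
  nT := nT h
  nV := nV h
  cV := cV h
  OV i := by
    rw [inter_eq]
    exact hO i
  VN := VN h
  sti := sti h
  odd := odd h
  gen := gen h hp
  nonloc := nonloc h hE

/-- **(4F) is impossible, `k = 2`**, given (K1). -/
theorem false_of_k1 (hML : MLK.{u, u}) (hX : ML.Ex.Two.Ext.{u, u}) {z : Fin 2 → G} (h : FrK S P K B ZJ L W Z C z)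
    (hE : NLoc (KZ B ZJ))
    (hp : ∀ i, ∃ f ∈ DD z, f ∈ normalizer (W i : Set G) ∧ f ∉ normalizer (Z i : Set G))
    (hO : ∀ i, o2 (DD z) ≤ centralizer (Z i : Set G)) : False :=
  (twoFr h hE hp hO).false_of hML hX fun i => by
    change IsKGroup (centralizer (zpowers (z i) : Set G))
    rw [cen_eq]
    exact kgroup h _

end Cfsg.Agent.Omega.NO3S.EThree.FourTwo
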